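import Mathlib
import Groth.Agent.KFlatLib.CxFlat

/-!
# An étale algebra glued along a split injection

If `R` is the kernel of `E → Z/T` with `E` étale over the Dedekind domain `R`, it stays so after base change.
-/

set_option autoImplicit false
set_option linter.style.haveILetI false
universe u

open Polynomial TensorProduct

namespace Groth.Agent.PinchCohFlatLib

variable {R : Type u} [CommRing R] {E T Z : Type u} [CommRing E] [CommRing T] [CommRing Z]
  [Algebra R E] [Algebra R T] [Algebra R Z]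

theorem exists_separable_aeval_eq_zero {k B : Type u} [Field k] [CommRing B] [Algebra k B] [Algebra.Etale k B] (x : B) :
    ∃ g : k[X], g.Separable ∧ aeval x g = 0 := by
  classical
  obtain ⟨I, hI, F, hF, hA, e, hsep⟩ := (Algebra.FormallyEtale.iff_exists_algEquiv_prod (K := k) (A := B)).1 inferInstance
  cases nonempty_fintype I
  haveI : Module.Finite k B := Algebra.FormallyUnramified.finite_of_free k B
  let s : Finset k[X] := Finset.univ.image fun i => minpoly k (e x i)
  have hint : ∀ i, IsIntegral k (e x i) := fun i =>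
    ((IsIntegral.of_finite k x).map e.toAlgHom).map (Pi.evalAlgHom k F i)
  have hirr : ∀ g ∈ s, Irreducible g ∧ g.Monic ∧ g.Separable := by
    intro g hg
    obtain ⟨i, -, rfl⟩ := Finset.mem_image.1 hg
    exact ⟨minpoly.irreducible (hint i), minpoly.monic (hint i), Algebra.IsSeparable.isSeparable k (e x i)⟩
  refine ⟨∏ g ∈ s, g, separable_prod' (fun g hg h hh hne => ?_) fun g hg => (hirr g hg).2.2, e.injective ?_⟩
  · rw [(hirr g hg).1.coprime_iff_not_dvd]
    exact fun hd => hne (eq_of_monic_of_associated (hirr g hg).2.1 (hirr h hh).2.1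
      ((hirr g hg).1.associated_of_dvd (hirr h hh).1 hd))
  · rw [map_zero]
    funext i
    rw [← aeval_algHom_apply e x, ← Pi.evalAlgHom_apply k F i (aeval (e x) _), ← aeval_algHom_apply]
    rw [map_prod]
    exact Finset.prod_eq_zero (Finset.mem_image_of_mem _ (Finset.mem_univ i)) (minpoly.aeval _ _)

theorem isNilpotent_mk {I : Ideal R} (n : ℕ) {x : E} (hx : x ∈ I.map (algebraMap R E)) :
    IsNilpotent (Ideal.Quotient.mk ((I ^ n).map (algebraMap R E)) x) := by
  refine ⟨n, ?_⟩
  rw [← map_pow, Ideal.Quotient.eq_zero_iff_mem, Ideal.map_pow]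
  exact Ideal.pow_mem_pow hx n

theorem isUnit_mk {I : Ideal R} (n : ℕ) {x : E} (hx : x - 1 ∈ I.map (algebraMap R E)) :
    IsUnit (Ideal.Quotient.mk ((I ^ n).map (algebraMap R E)) x) := by
  have h := (isNilpotent_mk n hx).isUnit_one_add
  rwa [map_sub, map_one, add_sub_cancel] at h

theorem aeval_mk (I : Ideal E) (G : R[X]) (x : E) :
    aeval (Ideal.Quotient.mk I x) G = Ideal.Quotient.mk I (aeval x G) :=
  aeval_algHom_apply (Ideal.Quotient.mkₐ R I) x G

/-- a root modulo `m` with unit derivative lifts modulo every power -/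
theorem exists_root (m : Ideal R) (n : ℕ) (G : R[X]) {x : E} (h : aeval x G ∈ m.map (algebraMap R E))
    (D : R[X]) (hD : aeval x (D * derivative G) - 1 ∈ m.map (algebraMap R E)) :
    IsNilpotent (aeval (Ideal.Quotient.mk ((m ^ n).map (algebraMap R E)) x) G) ∧
      IsUnit (aeval (Ideal.Quotient.mk ((m ^ n).map (algebraMap R E)) x) (derivative G)) ∧
      ∃ r : E, IsNilpotent (Ideal.Quotient.mk ((m ^ n).map (algebraMap R E)) x - Ideal.Quotient.mk _ r) ∧
        aeval (Ideal.Quotient.mk ((m ^ n).map (algebraMap R E)) r) G = 0 := by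
  have h1 : IsNilpotent (aeval (Ideal.Quotient.mk ((m ^ n).map (algebraMap R E)) x) G) := by
    rw [aeval_mk]; exact isNilpotent_mk n h
  have h2 : IsUnit (aeval (Ideal.Quotient.mk ((m ^ n).map (algebraMap R E)) x) (derivative G)) := by
    have h := isUnit_mk n hD
    rw [← aeval_mk, map_mul] at h
    exact isUnit_of_mul_isUnit_right h
  obtain ⟨r, ⟨hr1, hr2⟩, -⟩ := existsUnique_nilpotent_sub_and_aeval_eq_zero h1 h2
  obtain ⟨r, rfl⟩ := Ideal.Quotient.mk_surjective r
  exact ⟨h1, h2, r, hr1, hr2⟩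

variable (ι : E →ₐ[R] Z) (ξ : T →ₐ[R] Z)

theorem mem_map_iff {I : Ideal R} {x : E} :
    x ∈ I.map (algebraMap R E) ↔ x ∈ I • (⊤ : Submodule R E) := by
  rw [Ideal.smul_top_eq_map, Submodule.restrictScalars_mem]

theorem mem_map_of_linearMap (s : E →ₗ[R] T) {I : Ideal R} {x : E} (hx : x ∈ I.map (algebraMap R E)) :
    s x ∈ I.map (algebraMap R T) := by
  rw [mem_map_iff] at hx ⊢
  have h := Submodule.mem_map_of_mem (f := s) hx
  rw [Submodule.map_smul''] at h
  exact Submodule.smul_mono le_rfl le_top h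

/-- the image in `Z/T` -/
abbrev proj : E →ₗ[R] Z ⧸ LinearMap.range ξ.toLinearMap :=
  (LinearMap.range ξ.toLinearMap).mkQ ∘ₗ ι.toLinearMap

theorem exists_retraction (hξ : Function.Injective ξ) [Module.Projective R (Z ⧸ LinearMap.range ξ.toLinearMap)] :
    ∃ s : Z →ₗ[R] T, ∀ y, s (ξ y) = y := by
  obtain ⟨l, hl⟩ := Module.projective_lifting_property (LinearMap.range ξ.toLinearMap).mkQ LinearMap.id
    (Submodule.mkQ_surjective _)
  have h : ∀ z, z - l ((LinearMap.range ξ.toLinearMap).mkQ z) ∈ LinearMap.range ξ.toLinearMap := fun z =>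
    (Submodule.Quotient.eq _).1 (LinearMap.congr_fun hl ((LinearMap.range ξ.toLinearMap).mkQ z)).symm
  choose s hs using h
  have hs' : ∀ z, ξ (s z) = z - l ((LinearMap.range ξ.toLinearMap).mkQ z) := hs
  refine ⟨{ toFun := s, map_add' := fun x y => hξ ?_, map_smul' := fun r x => hξ ?_ }, fun y => hξ ?_⟩
  · rw [map_add, hs', hs', hs', map_add, map_add]; abel
  · rw [RingHom.id_apply, map_smul, hs', hs', map_smul, map_smul, smul_sub]
  · show ξ (s (ξ y)) = ξ y
    rw [hs', show (LinearMap.range ξ.toLinearMap).mkQ (ξ y) = 0 from (Submodule.Quotient.mk_eq_zero _).2 ⟨y, rfl⟩,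
      map_zero, sub_zero]

theorem proj_mem_smul_range [IsNoetherianRing R] [Algebra.Etale R E] [Module.Finite R Z] (hξ : Function.Injective ξ)
    [Module.Projective R (Z ⧸ LinearMap.range ξ.toLinearMap)]
    (hfib : ∀ e : E, proj ι ξ e = 0 → e ∈ Set.range (algebraMap R E))
    (m : Ideal R) [m.IsMaximal] (e : E) (he : proj ι ξ e ∈ m • (⊤ : Submodule R _)) :
    proj ι ξ e ∈ m • LinearMap.range (proj ι ξ) := by
  obtain ⟨s, hs⟩ := exists_retraction ξ hξ
  -- a separable equation modulo `m`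
  letI := Ideal.Quotient.field m
  obtain ⟨g, hg, hge⟩ := exists_separable_aeval_eq_zero (k := R ⧸ m) ((1 : R ⧸ m) ⊗ₜ[R] e)
  obtain ⟨G, rfl⟩ := map_surjective _ Ideal.Quotient.mk_surjective g
  let ψ : (R ⧸ m) ⊗[R] E →ₐ[R] E ⧸ m.map (algebraMap R E) :=
    Algebra.TensorProduct.lift (Ideal.Quotient.liftₐ m (Algebra.ofId R _) fun x hx =>
      Ideal.Quotient.eq_zero_iff_mem.2 (Ideal.mem_map_of_mem _ hx)) (Ideal.Quotient.mkₐ R _) fun _ _ => Commute.all _ _
  have hψ : ∀ P : R[X], ψ (aeval ((1 : R ⧸ m) ⊗ₜ[R] e) (P.map (Ideal.Quotient.mk m))) =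
      Ideal.Quotient.mk _ (aeval e P) := by
    intro P
    rw [show Ideal.Quotient.mk m = algebraMap R (R ⧸ m) from rfl, aeval_map_algebraMap, ← aeval_algHom_apply, ← aeval_mk]
    congr 2
    simp [ψ]
  obtain ⟨u, v, huv⟩ := hg
  obtain ⟨D, rfl⟩ := map_surjective _ Ideal.Quotient.mk_surjective v
  have hG : aeval e G ∈ m.map (algebraMap R E) := by
    rw [← Ideal.Quotient.eq_zero_iff_mem, ← hψ, hge, map_zero]
  have hD : aeval e (D * derivative G) - 1 ∈ m.map (algebraMap R E) := by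
    rw [← Ideal.Quotient.eq_zero_iff_mem, map_sub, map_one, ← hψ, Polynomial.map_mul, ← derivative_map]
    have h := congrArg (aeval ((1 : R ⧸ m) ⊗ₜ[R] e)) huv
    rw [map_add, map_mul, hge, mul_zero, zero_add, map_one] at h
    rw [h, map_one, sub_self]
  -- `ι e` comes from `T` modulo `m`
  have he' : ∃ τ : T, ι e - ξ τ ∈ m.map (algebraMap R Z) := by
    have hm : m • (⊤ : Submodule R (Z ⧸ LinearMap.range ξ.toLinearMap)) =
        Submodule.map (LinearMap.range ξ.toLinearMap).mkQ (m • ⊤) := by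
      rw [Submodule.map_smul'', Submodule.map_top, Submodule.range_mkQ]
    rw [hm] at he
    obtain ⟨z, hz, hze⟩ := he
    obtain ⟨τ, hτ⟩ := (Submodule.Quotient.eq _).1 hze.symm
    exact ⟨τ, by rw [mem_map_iff, show ι e - ξ τ = z by
      have : ξ τ = ι e - z := hτ
      rw [this, sub_sub_cancel]]; exact hz⟩
  obtain ⟨τ, hτ⟩ := he'
  have hmapι : ∀ {I : Ideal R} {x : E}, x ∈ I.map (algebraMap R E) → ι x ∈ I.map (algebraMap R Z) :=
    fun hx => mem_map_of_linearMap ι.toLinearMap hx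
  have hback : ∀ P : R[X], ∀ c : R, aeval e P - algebraMap R E c ∈ m.map (algebraMap R E) →
      aeval τ P - algebraMap R T c ∈ m.map (algebraMap R T) := by
    intro P c hP
    have h1 : aeval (ξ τ) P - algebraMap R Z c ∈ m.map (algebraMap R Z) := by
      have h2 : ι (aeval e P - algebraMap R E c) ∈ m.map (algebraMap R Z) := hmapι hP
      rw [map_sub, ← aeval_algHom_apply, AlgHom.commutes] at h2
      rw [← Ideal.Quotient.eq_zero_iff_mem, map_sub, ← aeval_mk] at h2 ⊢
      rwa [← Ideal.Quotient.eq.2 hτ]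
    rw [aeval_algHom_apply, ← AlgHom.commutes ξ, ← map_sub] at h1
    rw [← hs (aeval τ P - algebraMap R T c)]
    exact mem_map_of_linearMap s h1
  obtain ⟨k, hk⟩ := m.exists_pow_inf_eq_pow_smul (LinearMap.range (proj ι ξ))
  obtain ⟨h1, h2, r, hr, hr0⟩ := exists_root m (k + 1) G hG D hD
  obtain ⟨-, -, t, ht, ht0⟩ := exists_root m (k + 1) G (x := τ)
    (by simpa using hback G 0 (by simpa using hG)) D (by simpa using hback (D * derivative G) 1 (by simpa using hD))
  let ιn : E ⧸ (m ^ (k + 1)).map (algebraMap R E) →ₐ[R] Z ⧸ (m ^ (k + 1)).map (algebraMap R Z) :=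
    Ideal.Quotient.liftₐ _ ((Ideal.Quotient.mkₐ R _).comp ι) fun x hx => Ideal.Quotient.eq_zero_iff_mem.2 (hmapι hx)
  let ξn : T ⧸ (m ^ (k + 1)).map (algebraMap R T) →ₐ[R] Z ⧸ (m ^ (k + 1)).map (algebraMap R Z) :=
    Ideal.Quotient.liftₐ _ ((Ideal.Quotient.mkₐ R _).comp ξ) fun x hx => Ideal.Quotient.eq_zero_iff_mem.2
      (mem_map_of_linearMap ξ.toLinearMap hx)
  have huniq := existsUnique_nilpotent_sub_and_aeval_eq_zero
    (show IsNilpotent (aeval (ιn (Ideal.Quotient.mk _ e)) G) by rw [aeval_algHom_apply]; exact h1.map ιn)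
    (show IsUnit (aeval (ιn (Ideal.Quotient.mk _ e)) (derivative G)) by rw [aeval_algHom_apply]; exact h2.map ιn)
  have heq : Ideal.Quotient.mk ((m ^ (k + 1)).map (algebraMap R Z)) (ι r) = Ideal.Quotient.mk _ (ξ t) := by
    refine huniq.unique (y₁ := ιn (Ideal.Quotient.mk _ r)) (y₂ := ξn (Ideal.Quotient.mk _ t)) ⟨?_, ?_⟩ ⟨?_, ?_⟩
    · rw [← map_sub]; exact hr.map ιn
    · rw [aeval_algHom_apply, hr0, map_zero]
    · have h := Commute.isNilpotent_add (Commute.all _ _) (isNilpotent_mk (k + 1) hτ) (ht.map ξn)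
      rw [map_sub, map_sub] at h
      convert h using 1
      show Ideal.Quotient.mk _ (ι e) - Ideal.Quotient.mk _ (ξ t) =
        Ideal.Quotient.mk _ (ι e) - Ideal.Quotient.mk _ (ξ τ) + (Ideal.Quotient.mk _ (ξ τ) - Ideal.Quotient.mk _ (ξ t))
      abel
    · rw [aeval_algHom_apply, ht0, map_zero]
  have hr' : proj ι ξ r ∈ m ^ (k + 1) • (⊤ : Submodule R (Z ⧸ LinearMap.range ξ.toLinearMap)) := by
    have h : ι r - ξ t ∈ (m ^ (k + 1)) • (⊤ : Submodule R Z) := mem_map_iff.1 (Ideal.Quotient.eq.1 heq)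
    have h3 := Submodule.mem_map_of_mem (f := (LinearMap.range ξ.toLinearMap).mkQ) h
    rw [Submodule.map_smul'', Submodule.map_top, Submodule.range_mkQ, map_sub,
      show (LinearMap.range ξ.toLinearMap).mkQ (ξ t) = 0 from (Submodule.Quotient.mk_eq_zero _).2 ⟨t, rfl⟩, sub_zero] at h3
    exact h3
  have hrM : proj ι ξ r ∈ m • LinearMap.range (proj ι ξ) := by
    have h := hk (k + 1) (Nat.le_succ k)
    rw [Nat.add_sub_cancel_left, pow_one] at h
    have hmem : proj ι ξ r ∈ m ^ (k + 1) • ⊤ ⊓ LinearMap.range (proj ι ξ) := ⟨hr', r, rfl⟩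
    rw [h] at hmem
    exact Submodule.smul_mono le_rfl inf_le_right hmem
  have her : e - r ∈ m.map (algebraMap R E) := by
    obtain ⟨N, hN⟩ := hr
    rw [← map_sub, ← map_pow, Ideal.Quotient.eq_zero_iff_mem] at hN
    have hN' : (e - r) ^ N ∈ m.map (algebraMap R E) :=
      Ideal.map_mono (Ideal.pow_le_self (Nat.succ_ne_zero k)) hN
    haveI : Algebra.FormallyUnramified (R ⧸ m) ((R ⧸ m) ⊗[R] E) := inferInstance
    haveI : IsReduced ((R ⧸ m) ⊗[R] E) := Algebra.FormallyUnramified.isReduced_of_field (R ⧸ m) _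
    have h0 : ((1 : R ⧸ m) ⊗ₜ[R] (e - r)) ^ N = 0 := by
      rw [Algebra.TensorProduct.tmul_pow, one_pow]
      rw [mem_map_iff] at hN'
      revert hN'
      generalize (e - r) ^ N = x
      intro hx
      refine Submodule.smul_induction_on hx (fun a ha y _ => ?_) fun y z hy hz => ?_
      · rw [← TensorProduct.smul_tmul, Algebra.smul_def, mul_one,
          show algebraMap R (R ⧸ m) a = 0 from Ideal.Quotient.eq_zero_iff_mem.2 ha, TensorProduct.zero_tmul]
      · rw [TensorProduct.tmul_add, hy, hz, add_zero]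
    have h1 := congrArg ψ (IsNilpotent.eq_zero ⟨N, h0⟩)
    rw [map_zero, Algebra.TensorProduct.lift_tmul, map_one, one_mul] at h1
    exact Ideal.Quotient.eq_zero_iff_mem.1 h1
  have h4 : proj ι ξ (e - r) ∈ m • LinearMap.range (proj ι ξ) := by
    have h := Submodule.mem_map_of_mem (f := proj ι ξ) (mem_map_iff.1 her)
    rwa [Submodule.map_smul'', Submodule.map_top] at h
  have h := Submodule.add_mem _ h4 hrM
  rwa [← map_add, sub_add_cancel] at h

theorem isTorsionFree_quot [IsDedekindDomain R] [Algebra.Etale R E] [Module.Finite R Z]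
    (hξ : Function.Injective ξ) [Module.Projective R (Z ⧸ LinearMap.range ξ.toLinearMap)]
    (hfib : ∀ e : E, proj ι ξ e = 0 → e ∈ Set.range (algebraMap R E))
    {c : R} (hc : c ≠ 0) {n : Z ⧸ LinearMap.range ξ.toLinearMap} (hn : c • n ∈ LinearMap.range (proj ι ξ)) :
    n ∈ LinearMap.range (proj ι ξ) := by
  set M := LinearMap.range (proj ι ξ) with hM
  by_contra hnot
  let I : Ideal R := Submodule.comap (LinearMap.toSpanSingleton R _ n) M
  have hI : ∀ r, r ∈ I ↔ r • n ∈ M := fun r => Iff.rfl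
  have hItop : I ≠ ⊤ := fun h => hnot (by simpa using (hI 1).1 (h ▸ Submodule.mem_top))
  have hI0 : I ≠ ⊥ := fun h => hc (by simpa [h] using (hI c).2 hn)
  obtain ⟨m, hm, hle⟩ := Ideal.exists_le_maximal I hItop
  obtain ⟨J, hJ⟩ := Ideal.dvd_iff_le.2 hle
  have hJI : ¬ J ≤ I := fun h => by
    have hJ0 : J ≠ 0 := fun h0 => hI0 (by rw [hJ, h0, mul_zero]; rfl)
    have h2 : I = J := le_antisymm (hJ ▸ Ideal.mul_le_right) h
    rw [h2] at hJ
    exact hm.ne_top ((mul_eq_right₀ hJ0).1 hJ.symm |>.trans Ideal.one_eq_top)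
  obtain ⟨s, hsJ, hsI⟩ := SetLike.not_le_iff_exists.1 hJI
  have hmul : ∀ a ∈ m, a • s • n ∈ m • M := fun a ha => by
    have h1 : a • s • n ∈ M := by
      rw [smul_smul]; exact (hI _).1 (hJ ▸ Ideal.mul_mem_mul ha hsJ)
    obtain ⟨e, he⟩ := h1
    rw [← he]
    exact proj_mem_smul_range ι ξ hξ hfib m e (he ▸ Submodule.smul_mem_smul ha Submodule.mem_top)
  obtain ⟨c₀, hc₀, hc₀0⟩ := Submodule.exists_mem_ne_zero_of_ne_bot (p := m) (fun h => hI0 (le_bot_iff.1 (h ▸ hle)))
  obtain ⟨m', hm'⟩ := Ideal.dvd_iff_le.2 ((Ideal.span_singleton_le_iff_mem m).2 hc₀)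
  have h1 : c₀ • s • n ∈ Ideal.span {c₀} • M := by
    have hc₁ : c₀ ∈ m' * m := by rw [mul_comm, ← hm']; exact Ideal.mem_span_singleton_self c₀
    suffices key : ∀ x ∈ m' * m, x • s • n ∈ Ideal.span {c₀} • M from key _ hc₁
    intro x hx
    refine Submodule.mul_induction_on hx (fun b hb a ha => ?_) fun x y hx hy => ?_
    · rw [mul_smul, show Ideal.span {c₀} • M = m' • m • M by rw [← Submodule.mul_smul, mul_comm, ← hm']]
      exact Submodule.smul_mem_smul hb (hmul a ha)
    · rw [add_smul]; exact add_mem hx hy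
  rw [Submodule.ideal_span_singleton_smul] at h1
  obtain ⟨μ, hμ, hμe⟩ := h1
  haveI : Module.Flat R (Z ⧸ LinearMap.range ξ.toLinearMap) := inferInstance
  have h2 : μ = s • n := smul_right_injective _ hc₀0 hμe
  exact hsI ((hI s).2 (h2 ▸ hμ))

/-- **The base change of the fibre product.** -/
theorem core [IsDedekindDomain R] [Algebra.Etale R E] [Module.Finite R Z]
    (hξ : Function.Injective ξ) (hE : Function.Injective (algebraMap R E))
    [Module.Projective R (Z ⧸ LinearMap.range ξ.toLinearMap)]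
    (hfib : ∀ (e : E) (τ : T), ι e = ξ τ → e ∈ Set.range (algebraMap R E))
    (A : Type u) [CommRing A] [Algebra R A] :
    Function.Injective (Algebra.TensorProduct.includeRight : A →ₐ[R] E ⊗[R] A) ∧
      Function.Injective (Algebra.TensorProduct.map ξ (AlgHom.id R A)) ∧
      ∀ (x : E ⊗[R] A) (y : T ⊗[R] A),
        Algebra.TensorProduct.map ι (AlgHom.id R A) x = Algebra.TensorProduct.map ξ (AlgHom.id R A) y →
          ∃ a, x = 1 ⊗ₜ a := by
  have hfib' : ∀ e : E, proj ι ξ e = 0 → e ∈ Set.range (algebraMap R E) := fun e he => by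
    obtain ⟨τ, hτ⟩ := (Submodule.Quotient.mk_eq_zero _).1 he
    exact hfib e τ hτ.symm
  let Q := Z ⧸ LinearMap.range ξ.toLinearMap
  let M := LinearMap.range (proj ι ξ)
  haveI : Module.Flat R Q := inferInstanceAs (Module.Flat R (Z ⧸ LinearMap.range ξ.toLinearMap))
  have hp1 : proj ι ξ 1 = 0 := (Submodule.Quotient.mk_eq_zero _).2 ⟨1, (map_one ξ).trans (map_one ι).symm⟩
  have hex : Function.Exact (Algebra.linearMap R E) (proj ι ξ).rangeRestrict := fun e => by
    rw [← Subtype.coe_inj]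
    exact ⟨fun h => hfib' e h, fun ⟨r, hr⟩ => by
      rw [← hr]; show proj ι ξ (algebraMap R E r) = 0
      rw [Algebra.algebraMap_eq_smul_one, map_smul, hp1, smul_zero]⟩
  have h1 := KFlatLib.rTensor_injective_of_flat_quotient (Algebra.linearMap R E) (proj ι ξ).rangeRestrict hE hex
    (LinearMap.surjective_rangeRestrict _) A
  haveI : Module.IsTorsionFree R (Q ⧸ M) := by
    refine .of_smul_eq_zero fun c x hcx => ?_
    obtain ⟨x, rfl⟩ := M.mkQ_surjective x
    by_cases hc : c = 0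
    · exact Or.inl hc
    · exact Or.inr ((Submodule.Quotient.mk_eq_zero _).2
        (isTorsionFree_quot ι ξ hξ hfib' hc ((Submodule.Quotient.mk_eq_zero _).1 hcx)))
  have h2 := KFlatLib.rTensor_injective_of_flat_quotient M.subtype M.mkQ M.injective_subtype
    (LinearMap.exact_subtype_mkQ M) M.mkQ_surjective A
  have hrA : ∀ z, (Algebra.linearMap R E).rTensor A ((TensorProduct.lid R A).symm z) =
      (Algebra.TensorProduct.includeRight : A →ₐ[R] E ⊗[R] A) z := fun z => by simp
  refine ⟨fun x y h => (TensorProduct.lid R A).symm.injective (h1 (by rw [hrA, hrA, h])), ?_, fun x y hxy => ?_⟩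
  · exact KFlatLib.rTensor_injective_of_flat_quotient ξ.toLinearMap (LinearMap.range ξ.toLinearMap).mkQ hξ
      (LinearMap.exact_map_mkQ_range _) (Submodule.mkQ_surjective _) A
  · have h3 : (proj ι ξ).rTensor A x = 0 := by
      show LinearMap.rTensor A ((LinearMap.range ξ.toLinearMap).mkQ ∘ₗ ι.toLinearMap) x = 0
      rw [LinearMap.rTensor_comp_apply,
        show ι.toLinearMap.rTensor A x = ξ.toLinearMap.rTensor A y from hxy, ← LinearMap.rTensor_comp_apply]
      rw [LinearMap.range_mkQ_comp, LinearMap.rTensor_zero, LinearMap.zero_apply]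
    rw [← LinearMap.subtype_comp_codRestrict (proj ι ξ) _ (fun e => LinearMap.mem_range_self _ e), LinearMap.rTensor_comp_apply] at h3
    obtain ⟨z, hz⟩ := (rTensor_exact A hex (LinearMap.surjective_rangeRestrict _) x).1 (h2 (h3.trans (map_zero _).symm))
    obtain ⟨a, rfl⟩ := (TensorProduct.lid R A).symm.surjective z
    exact ⟨a, by rw [← hz, hrA]; rfl⟩

end Groth.Agent.PinchCohFlatLib
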