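import Mathlib
import Groth.Agent.PushLib.BCScheme
import Groth.Agent.PushLib.Over
import Groth.Agent.PushLib.Pushout
import Groth.Agent.S17904
import Groth.Agent.S17905
import Groth.Agent.KFlatLib.CxFlat
import Groth.Prelude.Def_W4c3jacimperfPinch

/-!
# Base change of a pinching with flat cokernel, and global sections of pushouts
-/

set_option autoImplicit false
set_option linter.style.haveILetI false
set_option backward.isDefEq.respectTransparency false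
set_option backward.isDefEq.respectTransparency.types false
set_option maxHeartbeats 1000000
universe u

open CategoryTheory Limits AlgebraicGeometry TensorProduct
open Groth.Agent.PushLib

namespace Groth.Agent.PinchCohFlatLib

theorem pairTensor_injective_of_flat_coker {B' B A' A : Type u} [CommRing B'] [CommRing B] [CommRing A'] [CommRing A]
    (S : FibSq B' B A' A) {R : Type u} [CommRing R] [Algebra R B'] [Algebra R B] [Algebra R A'] [Algebra R A]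
    (hu : S.u.comp (algebraMap R B') = algebraMap R B) (hv : S.v.comp (algebraMap R B') = algebraMap R A')
    (hA : S.q.comp (algebraMap R B) = algebraMap R A) (hq : Function.Injective S.q)
    [Module.Flat R (A ⧸ LinearMap.range (S.qₐ hA).toLinearMap)] (N : Type u) [AddCommGroup N] [Module R N] :
    Function.Injective ((S.pairₗ hu hv).rTensor N) := by
  have hinj : Function.Injective (S.vₐ hv).toLinearMap := fun x y h =>
    S.inj x y (hq (by rw [S.w, S.w]; exact congrArg S.p h)) h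
  let g := (LinearMap.range (S.qₐ hA).toLinearMap).mkQ ∘ₗ (S.pₐ hu hv hA).toLinearMap
  have hex : Function.Exact (S.vₐ hv).toLinearMap g := fun a => by
    refine ⟨fun h => ?_, ?_⟩
    · obtain ⟨b, hb⟩ := (Submodule.Quotient.mk_eq_zero _).1 h
      obtain ⟨x, -, hx⟩ := S.lift b a hb
      exact ⟨x, hx⟩
    · rintro ⟨x, rfl⟩
      exact (Submodule.Quotient.mk_eq_zero _).2 ⟨S.u x, S.w x⟩
  have h := KFlatLib.rTensor_injective_of_flat_quotient _ g hinj hex ((Submodule.mkQ_surjective _).comp S.surj) N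
  have e : (S.vₐ hv).toLinearMap = LinearMap.snd R B A' ∘ₗ S.pairₗ hu hv := rfl
  rw [e, LinearMap.rTensor_comp, LinearMap.coe_comp] at h
  exact h.of_comp

variable {X Y T Z P : Scheme.{u}} {ι : Z ⟶ X} {ξ : Z ⟶ T} {a : X ⟶ P} {b : T ⟶ P}

/-- the condition on a chart -/
def GoodPair (h : Z ⟶ Y) (p : Nice ι ξ) : Prop :=
  letI : Algebra Γ(Y, ⊤) Γ(Z, ι ⁻¹ᵁ p.U) := (h.appLE ⊤ _ le_top).hom.toAlgebra
  Function.Injective p.q ∧
    Module.Flat Γ(Y, ⊤) (Γ(Z, ι ⁻¹ᵁ p.U) ⧸ Submodule.span Γ(Y, ⊤) (Set.range p.q.hom))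

theorem isPushout_bc [IsAffine Y] [IsClosedImmersion ι] (hY : ∀ y : T, ∃ p : Nice ι ξ, y ∈ p.V)
    (hP : IsPushout ι ξ a b) (sP : P ⟶ Y)
    (hgood : ∀ w : P, ∃ p : Nice ι ξ, w ∈ Set.range (Nice.chart hY hP p).κ ∧ GoodPair (ι ≫ a ≫ sP) p)
    {A : Type u} [CommRing A] (φ : Γ(Y, ⊤) →+* A)
    {PT XT TT ZT : Scheme.{u}} (pP : PT ⟶ P) (sPT : PT ⟶ Spec (.of A))
    (hPT : IsPullback pP sPT sP (Spec.map (CommRingCat.ofHom φ) ≫ Y.isoSpec.inv))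
    (pX : XT ⟶ X) (qT : XT ⟶ PT) (hXT : IsPullback pX qT a pP)
    (pY : TT ⟶ T) (jT : TT ⟶ PT) (hYT : IsPullback pY jT b pP)
    (pZ : ZT ⟶ Z) (iT : ZT ⟶ XT) (hZT : IsPullback pZ iT ι pX)
    (hT : ZT ⟶ TT) (h₁ : hT ≫ pY = pZ ≫ ξ) (h₂ : hT ≫ jT = iT ≫ qT) :
    IsPushout iT hT qT jT := by
  refine isPushout_of_charts h₂.symm fun w => ?_
  obtain ⟨p, hwp, hinj, hflat⟩ := hgood (pP w)
  let C := Nice.chart hY hP p
  obtain ⟨l, hl⟩ : ∃ l, Spec.map l = C.κ ≫ sP ≫ Y.isoSpec.hom := Spec.map_surjective _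
  have hκP : C.κ ≫ sP = Spec.map l ≫ Y.isoSpec.inv := by
    rw [hl, Category.assoc, Category.assoc, Iso.hom_inv_id, Category.comp_id]
  letI := φ.toAlgebra
  letI := l.hom.toAlgebra
  letI := (C.S.u.comp l.hom).toAlgebra
  letI := (C.S.v.comp l.hom).toAlgebra
  letI := (C.S.q.comp (C.S.u.comp l.hom)).toAlgebra
  have hA : C.S.q.comp (C.S.u.comp l.hom) = ((ι ≫ a ≫ sP).appLE ⊤ (ι ⁻¹ᵁ p.U) le_top).hom := by
    let L : CommRingCat.of Γ(Y, ⊤) ⟶ CommRingCat.of C.A := CommRingCat.ofHom (C.S.q.comp (C.S.u.comp l.hom))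
    suffices hL : L = (ι ≫ a ≫ sP).appLE ⊤ (ι ⁻¹ᵁ p.U) le_top from congrArg CommRingCat.Hom.hom hL
    apply Spec.map_injective
    rw [← cancel_mono Y.isoSpec.inv]
    have hR : Spec.map ((ι ≫ a ≫ sP).appLE ⊤ (ι ⁻¹ᵁ p.U) le_top) ≫ Y.isoSpec.inv =
        (p.hU.preimage ι).fromSpec ≫ ι ≫ a ≫ sP := by
      rw [← IsAffineOpen.fromSpec_top]
      exact IsAffineOpen.SpecMap_appLE_fromSpec _ (isAffineOpen_top Y) (p.hU.preimage ι) le_top
    refine Eq.trans ?_ hR.symm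
    show Spec.map L ≫ Y.isoSpec.inv = C.κZ ≫ ι ≫ a ≫ sP
    rw [show Spec.map L = (specMap C.S.q ≫ specMap C.S.u) ≫ Spec.map l by
      rw [Category.assoc, ← Spec.map_comp, ← Spec.map_comp]; rfl]
    rw [Category.assoc, ← hκP, C.S.spec_w, Category.assoc, ← Category.assoc (specMap C.S.v), C.pbX.w,
      Category.assoc C.κX, ← Category.assoc (specMap C.S.p), C.hp, Category.assoc]
  haveI : Module.Flat Γ(Y, ⊤) (C.A ⧸ LinearMap.range (C.S.qₐ (R := Γ(Y, ⊤)) rfl).toLinearMap) := by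
    have e : (C.S.q.comp (C.S.u.comp l.hom)).toAlgebra = ((ι ≫ a ≫ sP).appLE ⊤ (ι ⁻¹ᵁ p.U) le_top).hom.toAlgebra := by
      rw [hA]
    have hr : LinearMap.range (C.S.qₐ (R := Γ(Y, ⊤)) rfl).toLinearMap = Submodule.span Γ(Y, ⊤) (Set.range C.S.q) :=
      (Submodule.span_eq _).symm.trans (congrArg _ (LinearMap.coe_range _))
    rw [hr]
    revert hflat
    show _ → @Module.Flat _ (Γ(Z, ι ⁻¹ᵁ p.U) ⧸ _) _ _ _
    rw [← e]
    exact fun h => h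
  obtain ⟨D, hD⟩ := exists_bcChart C (R := Γ(Y, ⊤)) (R' := A) rfl rfl rfl
    (pairTensor_injective_of_flat_coker C.S rfl rfl rfl hinj A) sP _ pP sPT hPT Y.isoSpec.inv (𝟙 _) hκP
    (Category.id_comp _) pX qT hXT pY jT hYT pZ iT hZT hT h₁ h₂
  exact ⟨D, hD w hwp ⟨sPT w, rfl⟩⟩

/-- global sections of a pushout -/
theorem sections_of_isPushout {A B C D : Scheme.{u}} {f : C ⟶ A} {g : C ⟶ B} {i : A ⟶ D} {j : B ⟶ D}
    (h : IsPushout f g i j) :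
    (∀ x y : Γ(D, ⊤), i.appTop x = i.appTop y → j.appTop x = j.appTop y → x = y) ∧
      ∀ (s : Γ(A, ⊤)) (t : Γ(B, ⊤)), f.appTop s = g.appTop t → ∃ x : Γ(D, ⊤), i.appTop x = s ∧ j.appTop x = t := by
  haveI := ΓSpec.adjunction.leftAdjoint_preservesColimits
  have h1 : IsPullback j.appTop i.appTop g.appTop f.appTop := (h.map Scheme.Γ.rightOp).unop
  have h2 := h1.map (forget CommRingCat.{u})
  obtain ⟨-, hu, he⟩ := (Types.isPullback_iff _ _ _ _).1 h2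
  refine ⟨fun x y hi hj => hu x y ⟨hj, hi⟩, fun s t hst => ?_⟩
  obtain ⟨x, hx1, hx2⟩ := he t s hst.symm
  exact ⟨x, hx2, hx1⟩

/-- a chart over an affine open of the base, with projective cokernel -/
theorem goodPair_of_projective [IsAffine Y] (f : X ⟶ Y) (t : T ⟶ Y) (hsq : ι ≫ f = ξ ≫ t) [Flat ξ] [Surjective ξ]
    (U : Y.Opens) (hU : IsAffineOpen U)
    (hproj : @Pinch.CokerProjective Γ(Y, U) Γ(Z, (ξ ≫ t) ⁻¹ᵁ U) Γ(T, t ⁻¹ᵁ U) _ _ _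
      ((ξ ≫ t).app U).hom.toAlgebra (ξ.app (t ⁻¹ᵁ U)).hom)
    (p : Nice ι ξ) (hV : p.V = t ⁻¹ᵁ U) : GoodPair (ι ≫ f) p := by
  obtain ⟨pU, pV, hpU, hpV, heq⟩ := p
  obtain rfl : pV = t ⁻¹ᵁ U := hV
  suffices key : ∀ (W : Z.Opens) (hW : W = ξ ⁻¹ᵁ (t ⁻¹ᵁ U)),
      letI : Algebra Γ(Y, ⊤) Γ(Z, W) := ((ι ≫ f).appLE ⊤ W le_top).hom.toAlgebra
      Function.Injective (ξ.appLE (t ⁻¹ᵁ U) W hW.le) ∧
        Module.Flat Γ(Y, ⊤) (Γ(Z, W) ⧸ Submodule.span Γ(Y, ⊤) (Set.range (ξ.appLE (t ⁻¹ᵁ U) W hW.le).hom)) from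
    key _ heq
  rintro _ rfl
  letI : Algebra Γ(Y, ⊤) Γ(Z, ξ ⁻¹ᵁ (t ⁻¹ᵁ U)) := ((ι ≫ f).appLE ⊤ _ le_top).hom.toAlgebra
  letI : Algebra Γ(Y, U) Γ(Z, ξ ⁻¹ᵁ (t ⁻¹ᵁ U)) := ((ξ ≫ t).app U).hom.toAlgebra
  letI : Algebra Γ(Y, ⊤) Γ(Y, U) := ((𝟙 Y : Y ⟶ Y).appLE ⊤ U le_top).hom.toAlgebra
  haveI : IsScalarTower Γ(Y, ⊤) Γ(Y, U) Γ(Z, ξ ⁻¹ᵁ (t ⁻¹ᵁ U)) := .of_algebraMap_eq fun r => by
    refine ConcreteCategory.congr_hom (?_ : (ι ≫ f).appLE ⊤ _ le_top =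
      (𝟙 Y : Y ⟶ Y).appLE ⊤ U le_top ≫ (ξ ≫ t).app U) r
    rw [Scheme.Hom.app_eq_appLE, Scheme.Hom.appLE_comp_appLE]
    exact Groth.Agent.S17904.appLE_congr_hom (by rw [hsq, Category.comp_id]) _ _ _ _
  haveI : Module.Flat Γ(Y, ⊤) Γ(Y, U) :=
    HasRingHomProperty.appLE (P := @Flat) (𝟙 Y) inferInstance ⟨⊤, isAffineOpen_top Y⟩ ⟨U, hU⟩ le_top
  haveI : Module.Projective Γ(Y, U)
      (Γ(Z, ξ ⁻¹ᵁ (t ⁻¹ᵁ U)) ⧸ Submodule.span Γ(Y, U) (Set.range (ξ.app (t ⁻¹ᵁ U)).hom)) := hproj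
  rw [← Scheme.Hom.app_eq_appLE]
  refine ⟨Groth.Agent.S17905.app_injective_of_flat_surjective ξ _, ?_⟩
  haveI : Module.Flat Γ(Y, ⊤)
      (Γ(Z, ξ ⁻¹ᵁ (t ⁻¹ᵁ U)) ⧸ Submodule.span Γ(Y, U) (Set.range (ξ.app (t ⁻¹ᵁ U)).hom)) := Module.Flat.trans _ Γ(Y, U) _
  have hs : Submodule.span Γ(Y, ⊤) (Set.range (ξ.app (t ⁻¹ᵁ U)).hom) =
      (Submodule.span Γ(Y, U) (Set.range (ξ.app (t ⁻¹ᵁ U)).hom)).restrictScalars Γ(Y, ⊤) := by
    refine le_antisymm (Submodule.span_le_restrictScalars _ _ _) fun z hz => ?_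
    refine Submodule.subset_span ?_
    induction hz using Submodule.span_induction with
    | mem x hx => exact hx
    | zero => exact ⟨0, map_zero _⟩
    | add x y _ _ hx hy => obtain ⟨x, rfl⟩ := hx; obtain ⟨y, rfl⟩ := hy; exact ⟨x + y, map_add _ _ _⟩
    | smul r x _ hx =>
      obtain ⟨x, rfl⟩ := hx
      refine ⟨t.app U r * x, (map_mul _ _ _).trans (congrArg (· * _) ?_)⟩
      exact (ConcreteCategory.congr_hom (Scheme.Hom.comp_app ξ t U) r).symm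
  rw [hs]
  exact Module.Flat.of_linearEquiv (Submodule.Quotient.restrictScalarsEquiv Γ(Y, ⊤) _)

theorem goodPair_of_bot [IsAffine Y] (h : Z ⟶ Y) (p : Nice ι ξ) (hV : p.V = ⊥) : GoodPair h p := by
  letI : Algebra Γ(Y, ⊤) Γ(Z, ι ⁻¹ᵁ p.U) := (h.appLE ⊤ _ le_top).hom.toAlgebra
  haveI : Subsingleton Γ(T, p.V) := hV ▸ CommRingCat.subsingleton_of_isTerminal T.sheaf.isTerminalOfEmpty
  have hbot : ι ⁻¹ᵁ p.U = ⊥ := by rw [p.heq, hV]; rfl
  haveI : Subsingleton Γ(Z, ι ⁻¹ᵁ p.U) := hbot ▸ CommRingCat.subsingleton_of_isTerminal Z.sheaf.isTerminalOfEmpty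
  exact ⟨fun _ _ _ => Subsingleton.elim _ _, inferInstance⟩

end Groth.Agent.PinchCohFlatLib
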